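import Mathlib
import Groth.Agent.StrictRatLib.Alg

/-!
Points of finite etale algebras in radical extensions of degree `p`, and split etale algebras over domains.
-/

set_option autoImplicit false
set_option linter.style.haveILetI false
set_option maxHeartbeats 800000
set_option synthInstance.maxHeartbeats 100000

universe u

open TensorProduct

noncomputable section

namespace Groth.Agent.PthRootLib

variable {L : Type u} [CommRing L] {B : Type u} [CommRing B] [Algebra L B] [Algebra.Etale L B] [Module.Finite L B]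

/-- A point with values in an algebra killed by a maximal ideal all whose `p`-th powers are constants is constant. -/
theorem exists_point (p : ℕ) [hp : Fact p.Prime] (q : Ideal L) [q.IsMaximal] (hpq : (p : L) ∈ q) {T : Type u} [CommRing T]
    [Nontrivial T] [Algebra L T] (hT : ∀ c ∈ q, algebraMap L T c = 0)
    (hpow : ∀ x : T, x ^ p ∈ Set.range (algebraMap L T)) (φ : B →ₐ[L] T) :
    ∃ β : B →ₐ[L] L ⧸ q, (Ideal.Quotient.liftₐ q (Algebra.ofId L T) hT).comp β = φ := by
  letI : Field (L ⧸ q) := Ideal.Quotient.field q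
  let ι₀ := Ideal.Quotient.liftₐ q (Algebra.ofId L T) hT
  letI : Algebra (L ⧸ q) T := ι₀.toRingHom.toAlgebra
  let D := φ.range
  have hmem : ∀ c : L ⧸ q, algebraMap (L ⧸ q) T c ∈ D := fun c => by
    obtain ⟨c, rfl⟩ := Ideal.Quotient.mk_surjective c
    exact D.algebraMap_mem c
  letI : Algebra (L ⧸ q) D := (RingHom.codRestrict (algebraMap (L ⧸ q) T) D.toSubring hmem).toAlgebra
  haveI : IsScalarTower L (L ⧸ q) D := IsScalarTower.of_algebraMap_eq fun c => Subtype.ext rfl
  haveI : Algebra.FormallyUnramified L D :=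
    Algebra.FormallyUnramified.of_surjective φ.rangeRestrict φ.rangeRestrict_surjective
  haveI : Algebra.FormallyUnramified (L ⧸ q) D := Algebra.FormallyUnramified.of_restrictScalars L (L ⧸ q) D
  haveI : Module.Finite L D := Module.Finite.of_surjective φ.rangeRestrict.toLinearMap φ.rangeRestrict_surjective
  haveI : Module.Finite (L ⧸ q) D := Module.Finite.of_restrictScalars_finite L (L ⧸ q) D
  haveI : IsReduced D := Algebra.FormallyUnramified.isReduced_of_field (L ⧸ q) D
  have hpD : ∀ x : D, ∃ c : L ⧸ q, algebraMap (L ⧸ q) D c = x ^ p := fun x => by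
    obtain ⟨c, hc⟩ := hpow x.1
    exact ⟨Ideal.Quotient.mk q c, Subtype.ext (show algebraMap L T c = x.1 ^ p from hc)⟩
  have hD : IsField D := by
    refine ⟨exists_pair_ne D, mul_comm, fun {x} hx => ?_⟩
    obtain ⟨c, hc⟩ := hpD x
    have hc0 : c ≠ 0 := fun h => hx (IsNilpotent.eq_zero ⟨p, by rw [← hc, h, map_zero]⟩)
    refine ⟨x ^ (p - 1) * algebraMap (L ⧸ q) D c⁻¹, ?_⟩
    rw [← mul_assoc, ← pow_succ', Nat.sub_add_cancel hp.out.one_le, ← hc, ← map_mul, mul_inv_cancel₀ hc0, map_one]
  letI : Field D := hD.toField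
  haveI : CharP (L ⧸ q) p := (CharP.charP_iff_prime_eq_zero hp.out).2 (by
    rw [← map_natCast (Ideal.Quotient.mk q)]; exact Ideal.Quotient.eq_zero_iff_mem.2 hpq)
  haveI : ExpChar (L ⧸ q) p := ExpChar.prime hp.out
  haveI : IsPurelyInseparable (L ⧸ q) D := by
    rw [isPurelyInseparable_iff_pow_mem (L ⧸ q) p]
    exact fun x => ⟨1, by rw [pow_one]; exact hpD x⟩
  haveI : Algebra.IsSeparable (L ⧸ q) D := Algebra.FormallyUnramified.isSeparable (L ⧸ q) D
  have hsur := IsPurelyInseparable.surjective_algebraMap_of_isSeparable (L ⧸ q) D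
  let e : (L ⧸ q) ≃ₐ[L] D := AlgEquiv.ofBijective (IsScalarTower.toAlgHom L (L ⧸ q) D)
    ⟨RingHom.injective _, hsur⟩
  refine ⟨e.symm.toAlgHom.comp φ.rangeRestrict, AlgHom.ext fun b => ?_⟩
  have h := congrArg Subtype.val (e.apply_symm_apply (φ.rangeRestrict b))
  exact h

/-- A point with values in a free algebra in which `p`-th powers are constants modulo `q` is constant modulo all
powers of `q`. -/
theorem sub_mem (p : ℕ) [Fact p.Prime] (q : Ideal L) [q.IsMaximal] (hpq : (p : L) ∈ q) {R : Type u} [CommRing R]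
    [Algebra L R] (hne : q.map (algebraMap L R) ≠ ⊤)
    (hpow : ∀ x : R, ∃ c, x ^ p - algebraMap L R c ∈ q.map (algebraMap L R)) (χ : B →ₐ[L] R) (b : B) (n : ℕ) :
    ∃ c, χ b - algebraMap L R c ∈ (q ^ n).map (algebraMap L R) := by
  rcases Nat.eq_zero_or_pos n with rfl | hn
  · exact ⟨0, by simp [Ideal.map_top]⟩
  let J := q.map (algebraMap L R)
  let Jn := (q ^ n).map (algebraMap L R)
  haveI : Nontrivial (R ⧸ J) := Ideal.Quotient.nontrivial_iff.2 hne
  have hT : ∀ c ∈ q, algebraMap L (R ⧸ J) c = 0 := fun c hc =>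
    Ideal.Quotient.eq_zero_iff_mem.2 (Ideal.mem_map_of_mem _ hc)
  obtain ⟨β, hβ⟩ := exists_point p q hpq hT (fun x => by
    obtain ⟨x, rfl⟩ := Ideal.Quotient.mk_surjective x
    obtain ⟨c, hc⟩ := hpow x
    exact ⟨c, by rw [← map_pow]; exact (Ideal.Quotient.eq.2 hc).symm⟩) ((Ideal.Quotient.mkₐ L J).comp χ)
  -- lift the point
  have hle : q ^ n ≤ q := Ideal.pow_le_self (Nat.pos_iff_ne_zero.1 hn)
  let g : L ⧸ q ^ n →ₐ[L] L ⧸ q := Ideal.Quotient.factorₐ L hle
  have hg : Function.Surjective g := Ideal.Quotient.factor_surjective hle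
  have hgn : IsNilpotent (RingHom.ker (g : L ⧸ q ^ n →+* L ⧸ q)) := by
    refine ⟨n, ?_⟩
    show RingHom.ker (Ideal.Quotient.factor hle) ^ n = 0
    rw [Ideal.Quotient.factor_ker, ← Ideal.map_pow, Submodule.zero_eq_bot]
    exact Ideal.map_quotient_self _
  let βn : B →ₐ[L] L ⧸ q ^ n := Algebra.FormallySmooth.liftOfSurjective β g hg hgn
  let κn : L ⧸ q ^ n →ₐ[L] R ⧸ Jn := Ideal.Quotient.liftₐ (q ^ n) (Algebra.ofId L (R ⧸ Jn))
    fun c hc => Ideal.Quotient.eq_zero_iff_mem.2 (Ideal.mem_map_of_mem _ hc)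
  have hJ : Jn ≤ J := Ideal.map_mono hle
  have hnil : IsNilpotent (J.map (Ideal.Quotient.mk Jn)) := by
    refine ⟨n, ?_⟩
    rw [← Ideal.map_pow, ← Ideal.map_pow, Submodule.zero_eq_bot]
    exact Ideal.map_quotient_self _
  have key : κn.comp βn = (Ideal.Quotient.mkₐ L Jn).comp χ := by
    refine Algebra.FormallyUnramified.ext' (Ideal.Quotient.factor hJ) ?_ _ _ fun x => ?_
    · rw [Ideal.Quotient.factor_ker]; exact hnil
    · have h1 : ∀ y : L ⧸ q ^ n, Ideal.Quotient.factor hJ (κn y) =
          Ideal.Quotient.liftₐ q (Algebra.ofId L (R ⧸ J)) hT (g y) := fun y => by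
        obtain ⟨y, rfl⟩ := Ideal.Quotient.mk_surjective y
        rfl
      rw [AlgHom.comp_apply, h1, show g (βn x) = β x from Algebra.FormallySmooth.liftOfSurjective_apply β g hg hgn x]
      exact AlgHom.congr_fun hβ x
  obtain ⟨c, hc⟩ := Ideal.Quotient.mk_surjective (βn b)
  refine ⟨c, Ideal.Quotient.eq.1 ?_⟩
  rw [← Ideal.Quotient.mkₐ_eq_mk L, ← AlgHom.comp_apply, ← key, AlgHom.comp_apply, ← hc]
  rfl

/-- A point with values in a finite free algebra in which `p`-th powers are constants modulo `q` is constant. -/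
theorem mem_range [IsDomain L] [IsNoetherianRing L] (p : ℕ) [Fact p.Prime] (q : Ideal L) [q.IsMaximal]
    (hpq : (p : L) ∈ q) {R : Type u} [CommRing R] [Algebra L R] {σ : Type} [Fintype σ] (bas : Module.Basis σ L R) (i₀ : σ)
    (h0 : bas i₀ = 1) (hpow : ∀ x : R, ∃ c, x ^ p - algebraMap L R c ∈ q.map (algebraMap L R)) (χ : B →ₐ[L] R)
    (b : B) : χ b ∈ Set.range (algebraMap L R) := by
  classical
  have hcoord : ∀ (I : Ideal L) (x : R), x ∈ I.map (algebraMap L R) → ∀ i, bas.coord i x ∈ I := fun I x hx i => by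
    have hx' : x ∈ I • (⊤ : Submodule L R) := by rwa [Ideal.smul_top_eq_map]
    refine Submodule.smul_induction_on hx' (fun r hr y _ => ?_) fun y z hy hz => ?_
    · rw [map_smul, smul_eq_mul]; exact I.mul_mem_right _ hr
    · rw [map_add]; exact I.add_mem hy hz
  have hal : ∀ (c : L) i, bas.coord i (algebraMap L R c) = if i₀ = i then c else 0 := fun c i => by
    rw [Algebra.algebraMap_eq_smul_one, ← h0, map_smul, Module.Basis.coord_apply, Module.Basis.repr_self,
      Finsupp.single_apply, smul_eq_mul, mul_ite, mul_one, mul_zero]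
  have hne : q.map (algebraMap L R) ≠ ⊤ := fun h => by
    have h1 := hcoord q 1 (h ▸ trivial) i₀
    rw [← h0, Module.Basis.coord_apply, Module.Basis.repr_self, Finsupp.single_eq_same] at h1
    exact Ideal.IsMaximal.ne_top ‹_› ((Ideal.eq_top_iff_one _).2 h1)
  have hz : ∀ i, i₀ ≠ i → bas.coord i (χ b) = 0 := fun i hi => by
    have h1 : bas.coord i (χ b) ∈ (⨅ n, q ^ n) := by
      simp only [Ideal.mem_iInf]
      intro n
      obtain ⟨c, hc⟩ := sub_mem p q hpq hne hpow χ b n
      have h2 := hcoord _ _ hc i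
      rwa [map_sub, hal, if_neg hi, sub_zero] at h2
    rwa [Ideal.iInf_pow_eq_bot_of_isDomain _ (Ideal.IsMaximal.ne_top ‹_›), Ideal.mem_bot] at h1
  refine ⟨bas.coord i₀ (χ b), bas.ext_elem fun i => ?_⟩
  show bas.coord i _ = bas.coord i _
  rw [hal]
  split
  · next h => rw [h]
  · next h => rw [hz i h]

/-- A finite etale algebra over a domain all whose geometric generic points are defined over the base is split. -/
theorem bijective_pi [IsDomain L] (K : Type u) [Field K] [Algebra L K] [IsFractionRing L K]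
    (Ω : Type u) [Field Ω] [IsAlgClosed Ω] [Algebra L Ω] [Algebra K Ω] [IsScalarTower L K Ω]
    (h : ∀ (χ : B →ₐ[L] Ω) (b : B), χ b ∈ Set.range (algebraMap L Ω)) :
    Function.Bijective (AlgHom.pi (R := L) (A := fun _ : B →ₐ[L] L => L) fun σ => σ) := by
  classical
  haveI := StrictRatLib.finite_algHom (A := L) B L
  letI := Fintype.ofFinite (B →ₐ[L] L)
  have hinj : Function.Injective (algebraMap L Ω) := by
    rw [IsScalarTower.algebraMap_eq L K Ω]
    exact (algebraMap K Ω).injective.comp (IsFractionRing.injective L K)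
  have hfac : ∀ χ : B →ₐ[L] Ω, ∃ σ : B →ₐ[L] L, ∀ b, algebraMap L Ω (σ b) = χ b := fun χ => by
    choose s hs using h χ
    exact ⟨AlgHom.mk' { toFun := s
                        map_one' := hinj (by rw [hs, map_one, map_one])
                        map_mul' := fun a c => hinj (by rw [map_mul, hs, hs, hs, map_mul])
                        map_zero' := hinj (by rw [hs, map_zero, map_zero])
                        map_add' := fun a c => hinj (by rw [map_add, hs, hs, hs, map_add]) }
      (fun c a => hinj (by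
        show algebraMap L Ω (s (c • a)) = algebraMap L Ω (c • s a)
        rw [hs, map_smul, smul_eq_mul, map_mul, hs, Algebra.smul_def])), hs⟩
  refine ⟨fun x y hxy => ?_, fun v => ?_⟩
  · rw [← sub_eq_zero]
    set b := x - y with hb
    have hb0 : ∀ σ : B →ₐ[L] L, σ b = 0 := fun σ => by rw [hb, map_sub, sub_eq_zero]; exact congrFun hxy σ
    have hflat : Function.Injective (Algebra.TensorProduct.includeRight : B →ₐ[L] K ⊗[L] B) :=
      Algebra.TensorProduct.includeRight_injective (IsFractionRing.injective L K)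
    apply hflat
    rw [map_zero]
    haveI : IsReduced (K ⊗[L] B) := Algebra.FormallyUnramified.isReduced_of_field K (K ⊗[L] B)
    refine IsReduced.eq_zero _ ?_
    rw [nilpotent_iff_mem_prime]
    intro P hP
    haveI := hP
    haveI : IsArtinianRing (K ⊗[L] B) := IsArtinianRing.of_finite K _
    haveI : P.IsMaximal := IsArtinianRing.isMaximal_of_isPrime P
    letI : Field ((K ⊗[L] B) ⧸ P) := Ideal.Quotient.field P
    let em : ((K ⊗[L] B) ⧸ P) →ₐ[K] Ω := IsAlgClosed.lift
    obtain ⟨σ, hσ⟩ := hfac (((em.comp (Ideal.Quotient.mkₐ K P)).restrictScalars L).comp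
      Algebra.TensorProduct.includeRight)
    have h1 := hσ b
    rw [hb0, map_zero] at h1
    refine Ideal.Quotient.eq_zero_iff_mem.1 (em.toRingHom.injective ?_)
    rw [map_zero]
    exact h1.symm
  · let E := fun σ : B →ₐ[L] L =>
      Algebra.TensorProduct.lmul' L (Algebra.TensorProduct.map (Algebra.ofId L B |>.comp σ) (AlgHom.id L B)
        (Algebra.FormallyUnramified.elem L B))
    have hmul : ∀ (σ : B →ₐ[L] L) (b : B), b * E σ = algebraMap L B (σ b) * E σ := fun σ b => by
      have h1 := congrArg (fun z => Algebra.TensorProduct.lmul' L (Algebra.TensorProduct.map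
        (Algebra.ofId L B |>.comp σ) (AlgHom.id L B) z)) (Algebra.FormallyUnramified.one_tmul_mul_elem (R := L) b)
      simpa [E] using h1
    have hE : ∀ (σ τ : B →ₐ[L] L), τ (E σ) = if σ = τ then 1 else 0 := fun σ τ => by
      split
      · next e =>
        subst e
        have h1 : (σ.comp (Algebra.TensorProduct.lmul' L)).comp
            (Algebra.TensorProduct.map ((Algebra.ofId L B).comp σ) (AlgHom.id L B)) =
            σ.comp (Algebra.TensorProduct.lmul' L) := by
          ext x <;> simp
        have h2 := AlgHom.congr_fun h1 (Algebra.FormallyUnramified.elem L B)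
        simp only [AlgHom.comp_apply, Algebra.FormallyUnramified.lmul_elem, map_one] at h2
        exact h2
      · next e =>
        obtain ⟨b, hb⟩ : ∃ b, σ b ≠ τ b := by
          by_contra hc; push Not at hc; exact e (AlgHom.ext hc)
        have h1 := congrArg τ (hmul σ b)
        rw [map_mul, map_mul, AlgHom.commutes, Algebra.algebraMap_self, RingHom.id_apply, ← sub_eq_zero, ← sub_mul] at h1
        exact (mul_eq_zero.1 h1).resolve_left (sub_ne_zero.2 hb.symm)
    refine ⟨∑ σ, algebraMap L B (v σ) * E σ, funext fun τ => ?_⟩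
    show τ (∑ σ, algebraMap L B (v σ) * E σ) = v τ
    simp [hE]

end Groth.Agent.PthRootLib
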