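import Groth.Agent.PthRootLib.Basic
import Groth.Agent.RegLocal.Basic
import Groth.Agent.WLocalLib.FiniteContr
import Groth.Agent.AbhyankarAbs.Split

/-!
Extension of finite etale covers after adjoining a `p`-th root.
-/

set_option autoImplicit false
set_option linter.style.haveILetI false
set_option maxHeartbeats 800000
set_option synthInstance.maxHeartbeats 100000

universe u

open TensorProduct Polynomial

noncomputable section

namespace Groth.Agent.PthRootLib

theorem monic_poly {R : Type u} [CommRing R] (p : ℕ) [hp : Fact p.Prime] (c : R) : (X ^ p - C c).Monic :=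
  monic_X_pow_sub_C c hp.out.ne_zero

/-- A radical extension embeds in the field. -/
theorem injective_liftHom {R K Ω : Type u} [CommRing R] [Field K] [Field Ω] [Algebra R K] [Algebra R Ω] [Algebra K Ω]
    [IsScalarTower R K Ω] (hinj : Function.Injective (algebraMap R K)) (p : ℕ) [hp : Fact p.Prime] (c : R)
    (hirr : Irreducible (X ^ p - C (algebraMap R K c))) (θ : Ω) (h : aeval θ (X ^ p - C c) = 0) :
    Function.Injective (AdjoinRoot.liftAlgHom (X ^ p - C c) (Algebra.ofId R Ω) θ h) := by
  rw [injective_iff_map_eq_zero]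
  intro z hz
  obtain ⟨r, rfl⟩ := AdjoinRoot.mk_surjective z
  haveI : Nontrivial R := nontrivial_of_ne (1 : R) 0 fun h => (one_ne_zero : (1 : K) ≠ 0) (by rw [← map_one (algebraMap R K), h, map_zero])
  have hg := monic_poly p c
  erw [AdjoinRoot.liftAlgHom_mk] at hz
  replace hz : aeval θ r = 0 := hz
  rw [AdjoinRoot.mk_eq_zero, ← modByMonic_eq_zero_iff_dvd hg]
  set r' := r %ₘ (X ^ p - C c) with hr'
  have h1 : aeval θ r' = 0 := by
    rw [hr', modByMonic_eq_sub_mul_div, map_sub, map_mul, h, zero_mul, sub_zero, hz]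
  have hdeg : r'.degree < p := by
    refine (degree_modByMonic_lt r hg).trans_le ?_
    rw [degree_X_pow_sub_C hp.out.pos]
  have hmin : X ^ p - C (algebraMap R K c) = minpoly K θ := by
    refine minpoly.eq_of_irreducible_of_monic hirr ?_ (monic_poly p _)
    have h' : aeval θ ((X ^ p - C c).map (algebraMap R K)) = 0 := by rw [aeval_map_algebraMap]; exact h
    rw [Polynomial.map_sub, Polynomial.map_pow, map_X, map_C] at h'
    exact h'
  have h2 : r'.map (algebraMap R K) = 0 := by
    refine eq_zero_of_dvd_of_degree_lt (minpoly.dvd K θ (by rw [aeval_map_algebraMap]; exact h1)) ?_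
    rw [← hmin, degree_X_pow_sub_C hp.out.pos]
    exact degree_map_le.trans_lt hdeg
  exact map_injective _ hinj (by rw [h2, Polynomial.map_zero])

/-- `p`-th powers are constants modulo an ideal containing `p`. -/
theorem pow_const {R : Type u} [CommRing R] (p : ℕ) [hp : Fact p.Prime] (c : R) (q : Ideal R) (hq : (p : R) ∈ q)
    (x : AdjoinRoot (X ^ p - C c)) :
    ∃ a, x ^ p - algebraMap R _ a ∈ q.map (algebraMap R (AdjoinRoot (X ^ p - C c))) := by
  obtain ⟨r, rfl⟩ := AdjoinRoot.mk_surjective x
  induction r using Polynomial.induction_on' with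
  | add r s hr hs =>
    obtain ⟨a, ha⟩ := hr
    obtain ⟨b, hb⟩ := hs
    obtain ⟨t, ht⟩ := exists_add_pow_prime_eq hp.out (AdjoinRoot.mk (X ^ p - C c) r) (AdjoinRoot.mk _ s)
    refine ⟨a + b, ?_⟩
    have h1 : (p : AdjoinRoot (X ^ p - C c)) ∈ q.map (algebraMap R (AdjoinRoot (X ^ p - C c))) := by
      rw [← map_natCast (algebraMap R (AdjoinRoot (X ^ p - C c)))]; exact Ideal.mem_map_of_mem _ hq
    rw [map_add (AdjoinRoot.mk _), ht, map_add]
    convert add_mem (add_mem ha hb) (Ideal.mul_mem_right t _ (Ideal.mul_mem_right (AdjoinRoot.mk _ s) _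
      (Ideal.mul_mem_right (AdjoinRoot.mk _ r) _ h1))) using 1
    ring
  | monomial n a =>
    refine ⟨a ^ p * c ^ n, ?_⟩
    have h0 : (AdjoinRoot.mk (X ^ p - C c)) X ^ p = algebraMap R _ c := by
      rw [← map_pow, ← sub_eq_zero, show algebraMap R (AdjoinRoot (X ^ p - C c)) c = AdjoinRoot.mk _ (C c) from rfl,
        ← map_sub, AdjoinRoot.mk_self]
    rw [← C_mul_X_pow_eq_monomial, map_mul, mul_pow, map_pow, ← pow_mul, mul_comm n p, pow_mul, h0, map_mul,
      map_pow, map_pow]
    simp

/-- In a noetherian domain a prime element is no ratio of `p`-th powers. -/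
theorem eq_zero_of_pow_eq {A : Type u} [CommRing A] [IsDomain A] [IsNoetherianRing A] {f : A} (hf : Prime f) {p : ℕ}
    (hp : 2 ≤ p) (y : A) : ∀ x, x ^ p = f * y ^ p → y = 0 := by
  induction y using (wellFounded_dvdNotUnit (α := A)).induction with
  | _ y ih =>
    intro x hx
    by_contra hy
    obtain ⟨x', rfl⟩ := hf.dvd_of_dvd_pow (Dvd.intro _ hx.symm)
    have h1 : f ^ (p - 1) * x' ^ p = y ^ p := by
      refine mul_left_cancel₀ hf.ne_zero ?_
      rw [← mul_assoc, ← pow_succ', Nat.sub_add_cancel (by omega), ← mul_pow, hx]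
    obtain ⟨y', rfl⟩ := hf.dvd_of_dvd_pow ((dvd_mul_of_dvd_left (dvd_pow_self f (by omega : p - 1 ≠ 0)) _).trans
      h1.dvd : f ∣ y ^ p)
    have h2 : x' ^ p = f * y' ^ p := by
      refine mul_left_cancel₀ (pow_ne_zero (p - 1) hf.ne_zero) ?_
      rw [h1, mul_pow, ← mul_assoc, ← pow_succ, Nat.sub_add_cancel (by omega)]
    have h3 : y' ≠ 0 := fun e => hy (by rw [e, mul_zero])
    exact h3 (ih y' ⟨h3, f, hf.not_isUnit, mul_comm _ _⟩ x' h2)

/-- The product of copies of the localization is the localization of the product. -/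
theorem isLocalization_pi {A L : Type u} [CommRing A] [CommRing L] [Algebra A L] (f : A) [IsLocalization.Away f L]
    (ι : Type u) [Finite ι] :
    IsLocalization.Away (algebraMap A (ι → A) f) (ι → L) := by
  letI := Fintype.ofFinite ι
  classical
  refine (isLocalization_iff _ _).2 ⟨?_, ?_, ?_⟩
  · rintro ⟨_, n, rfl⟩
    rw [map_pow]
    refine IsUnit.pow _ (Pi.isUnit_iff.2 fun i => ?_)
    exact IsLocalization.Away.algebraMap_isUnit f
  · intro z
    choose n a ha using fun i => IsLocalization.Away.surj (S := L) f (z i)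
    refine ⟨(fun i => a i * f ^ (Finset.univ.sum n - n i), ⟨_, Finset.univ.sum n, rfl⟩), funext fun i => ?_⟩
    show z i * (algebraMap (ι → A) (ι → L) (algebraMap A (ι → A) f ^ Finset.univ.sum n)) i =
      algebraMap A L (a i * f ^ (Finset.univ.sum n - n i))
    rw [map_mul, ← ha i, map_pow]
    show z i * algebraMap A L f ^ Finset.univ.sum n = _
    rw [map_pow, mul_assoc, ← pow_add, Nat.add_sub_cancel' (Finset.single_le_sum (fun _ _ => Nat.zero_le _) (Finset.mem_univ i))]
  · intro a b hab
    choose n hn using fun i => IsLocalization.Away.exists_of_eq (S := L) f (congrFun hab i)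
    refine ⟨⟨_, Finset.univ.sum n, rfl⟩, funext fun i => ?_⟩
    show (algebraMap A (ι → A) f ^ Finset.univ.sum n) i * a i = (algebraMap A (ι → A) f ^ Finset.univ.sum n) i * b i
    show f ^ Finset.univ.sum n * a i = f ^ Finset.univ.sum n * b i
    rw [← Nat.add_sub_cancel' (Finset.single_le_sum (f := n) (fun _ _ => Nat.zero_le _) (Finset.mem_univ i)), pow_add,
      mul_comm (f ^ n i), mul_assoc, mul_assoc]
    exact congrArg _ (hn i)

variable {A : Type u} [CommRing A] [IsRegularLocalRing A] [HenselianLocalRing A]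
  [IsSepClosed (IsLocalRing.ResidueField A)]

theorem exists_extension (p : ℕ) [hp : Fact p.Prime] [CharP (IsLocalRing.ResidueField A) p] (f : A)
    (hreg : IsRegularLocalRing (A ⧸ Ideal.span {f})) (hpf : (p : A) ∉ Ideal.span {f})
    (B : Type u) [CommRing B] [Algebra A B] [Algebra (Localization.Away f) B]
    [IsScalarTower A (Localization.Away f) B] [Module.Finite (Localization.Away f) B]
    [Algebra.Etale (Localization.Away f) B]
    (h : ∃ (C₁ : Type u) (_ : CommRing C₁) (_ : Algebra (AdjoinRoot (X ^ p - C f)) C₁),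
      Module.Finite (AdjoinRoot (X ^ p - C f)) C₁ ∧ Algebra.Etale (AdjoinRoot (X ^ p - C f)) C₁ ∧
      Nonempty (Localization.Away (algebraMap (AdjoinRoot (X ^ p - C f)) C₁ (AdjoinRoot.of (X ^ p - C f) f))
        ≃ₐ[AdjoinRoot (X ^ p - C f)] AdjoinRoot (X ^ p - C f) ⊗[A] B)) :
    ∃ (D : Type u) (_ : CommRing D) (_ : Algebra A D), Module.Finite A D ∧ Algebra.Etale A D ∧
      Nonempty (Localization.Away (algebraMap A D f) ≃ₐ[A] B) := by
  classical
  haveI : IsDomain A := RegLocal.isDomain A
  haveI := hreg
  by_cases hf0 : f = 0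
  · subst hf0
    haveI : Subsingleton (Localization.Away (0 : A)) :=
      IsLocalization.subsingleton (M := Submonoid.powers (0 : A)) (Submonoid.mem_powers _)
    haveI : Subsingleton B := Module.subsingleton (Localization.Away (0 : A)) B
    haveI : Algebra.Etale A (Localization.Away (0 : A)) := Algebra.Etale.of_isLocalizationAway (0 : A)
    haveI : Subsingleton (Localization.Away (algebraMap A (Localization.Away (0 : A)) 0)) :=
      IsLocalization.subsingleton (M := Submonoid.powers (algebraMap A (Localization.Away (0 : A)) 0))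
        ⟨1, by simp⟩
    exact ⟨Localization.Away (0 : A), inferInstance, inferInstance, inferInstance, inferInstance,
      ⟨{ toFun := fun _ => 0
         invFun := fun _ => 0
         left_inv := fun _ => Subsingleton.elim _ _
         right_inv := fun _ => Subsingleton.elim _ _
         map_mul' := fun _ _ => Subsingleton.elim _ _
         map_add' := fun _ _ => Subsingleton.elim _ _
         commutes' := fun _ => Subsingleton.elim _ _ }⟩⟩
  obtain ⟨C₁, _, _, _, _, ⟨e⟩⟩ := h
  have hprime : Prime f := by
    haveI : IsDomain (A ⧸ Ideal.span {f}) := RegLocal.isDomain _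
    exact (Ideal.span_singleton_prime hf0).1 ((Ideal.Quotient.isDomain_iff_prime _).1 inferInstance)
  let K := FractionRing A
  let Ω := AlgebraicClosure K
  let L := Localization.Away f
  have hu : IsUnit (algebraMap A K f) := (map_ne_zero_iff _ (IsFractionRing.injective A K)).2 hf0 |>.isUnit
  letI : Algebra L K := (IsLocalization.Away.lift f hu).toAlgebra
  haveI : IsScalarTower A L K := IsScalarTower.of_algebraMap_eq fun a =>
    (IsLocalization.Away.lift_eq f hu a).symm
  haveI : IsDomain L := IsLocalization.isDomain_localization (powers_le_nonZeroDivisors_of_noZeroDivisors hf0)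
  haveI : IsNoetherianRing L := IsLocalization.isNoetherianRing (Submonoid.powers f) L inferInstance
  haveI : IsFractionRing L K := IsFractionRing.isFractionRing_of_isDomain_of_isLocalization (Submonoid.powers f) L K
  haveI : IsScalarTower A L Ω := IsScalarTower.of_algebraMap_eq fun a => by
    rw [IsScalarTower.algebraMap_apply A K Ω, IsScalarTower.algebraMap_apply L K Ω, ← IsScalarTower.algebraMap_apply A L K]
  -- irreducibility
  have hirr : Irreducible (X ^ p - C (algebraMap A K f)) := by
    refine X_pow_sub_C_irreducible_of_prime hp.out fun b hb => ?_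
    obtain ⟨x, y, hy, rfl⟩ := IsFractionRing.div_surjective (A := A) b
    have hy0 : algebraMap A K y ≠ 0 := IsFractionRing.to_map_ne_zero_of_mem_nonZeroDivisors hy
    rw [div_pow, div_eq_iff (pow_ne_zero _ hy0), ← map_pow, ← map_pow, ← map_mul] at hb
    exact nonZeroDivisors.ne_zero hy (eq_zero_of_pow_eq hprime hp.out.two_le y x (IsFractionRing.injective A K hb))
  obtain ⟨θ, hθ⟩ := IsAlgClosed.exists_pow_nat_eq (algebraMap A Ω f) hp.out.pos
  let A₁ := AdjoinRoot (X ^ p - C f)
  have hA : aeval θ (X ^ p - C f) = 0 := by simp [hθ]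
  let ψ₁ : A₁ →ₐ[A] Ω := AdjoinRoot.liftAlgHom _ (Algebra.ofId A Ω) θ hA
  have hψ₁ : Function.Injective ψ₁ := injective_liftHom (IsFractionRing.injective A K) p f hirr θ hA
  let fL := algebraMap A L f
  have hL : aeval θ (X ^ p - C fL) = 0 := by simp [fL, hθ, ← IsScalarTower.algebraMap_apply]
  let R := AdjoinRoot (X ^ p - C fL)
  let ψ : R →ₐ[L] Ω := AdjoinRoot.liftAlgHom _ (Algebra.ofId L Ω) θ hL
  have hψ : Function.Injective ψ := by
    refine injective_liftHom (IsFractionRing.injective L K) p fL ?_ θ hL
    rwa [← IsScalarTower.algebraMap_apply A L K]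
  -- the radical extension is strictly henselian
  letI : Algebra A₁ Ω := ψ₁.toRingHom.toAlgebra
  haveI : IsScalarTower A A₁ Ω := IsScalarTower.of_algebraMap_eq fun a => (ψ₁.commutes a).symm
  haveI : IsDomain A₁ := hψ₁.isDomain ψ₁.toRingHom
  haveI : Module.Finite A A₁ := (monic_poly p f).finite_adjoinRoot
  haveI : IsLocalRing A₁ := WLocalLib.isLocalRing_of_isIntegral (A := A) A₁
  obtain ⟨_, _⟩ := WLocalLib.isStrictlyHenselian_of_finite A ⟨inferInstance, inferInstance⟩ A₁
  -- geometric points are in the radical extension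
  have hχR : ∀ (χ : B →ₐ[L] Ω) (b : B), ∃ r : R, ψ r = χ b := fun χ b => by
    let g : A₁ ⊗[A] B →ₐ[A₁] Ω :=
      Algebra.TensorProduct.lift (Algebra.ofId A₁ Ω) (χ.restrictScalars A) fun _ _ => Commute.all _ _
    let F := algebraMap A₁ C₁ (AdjoinRoot.of (X ^ p - C f) f)
    let χ₁ : C₁ →ₐ[A₁] Ω := (g.comp e.toAlgHom).comp (IsScalarTower.toAlgHom A₁ C₁ (Localization.Away F))
    obtain ⟨n, c, hc⟩ := IsLocalization.Away.surj (S := Localization.Away F) F (e.symm (1 ⊗ₜ b))
    obtain ⟨a, ha⟩ := AbhyankarAbs.mem_range_of_etale (A := A) χ₁ c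
    obtain ⟨r, rfl⟩ := AdjoinRoot.mk_surjective a
    have h1 : χ b * algebraMap A Ω f ^ n = aeval θ r := by
      have h2 := congrArg (fun z => g (e z)) hc
      simp only [map_mul, map_pow, AlgEquiv.apply_symm_apply] at h2
      have h3 : g (e (algebraMap C₁ (Localization.Away F) F)) = algebraMap A Ω f := by
        rw [show algebraMap C₁ (Localization.Away F) F =
          algebraMap A₁ (Localization.Away F) (AdjoinRoot.of (X ^ p - C f) f) from
            (IsScalarTower.algebraMap_apply A₁ C₁ (Localization.Away F) _).symm, e.commutes, g.commutes]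
        exact ψ₁.commutes f
      have h4 : g (1 ⊗ₜ b) = χ b := by simp [g]
      rw [h3, h4] at h2
      refine h2.trans (ha.symm.trans ?_)
      show ψ₁ (AdjoinRoot.mk _ r) = _
      simp only [ψ₁]
      erw [AdjoinRoot.liftAlgHom_mk]
    obtain ⟨v, hv⟩ := (IsLocalization.Away.algebraMap_isUnit (S := L) f).exists_left_inv
    refine ⟨AdjoinRoot.mk _ (C (v ^ n) * r.map (algebraMap A L)), ?_⟩
    simp only [ψ]
    erw [AdjoinRoot.liftAlgHom_mk]
    show aeval θ (C (v ^ n) * r.map (algebraMap A L)) = χ b
    rw [map_mul, aeval_C, aeval_map_algebraMap, ← h1, IsScalarTower.algebraMap_apply A L Ω, ← map_pow, mul_left_comm,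
      ← map_mul, ← mul_pow, hv, one_pow, map_one, mul_one]
  -- hence defined over the base
  obtain ⟨q, hq, hpq⟩ : ∃ q : Ideal L, q.IsMaximal ∧ (p : L) ∈ q := by
    obtain ⟨q, hq, hle⟩ := Ideal.exists_le_maximal (Ideal.span {(p : L)}) (by
      rw [Ne, Ideal.span_singleton_eq_top]
      intro hpu
      obtain ⟨v, hv⟩ := hpu.exists_right_inv
      obtain ⟨n, a, ha⟩ := IsLocalization.Away.surj (S := L) f v
      have h1 : (p : A) * a = f ^ n := by
        refine IsLocalization.injective L (powers_le_nonZeroDivisors_of_noZeroDivisors hf0) ?_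
        rw [map_mul, map_natCast, ← ha, ← mul_assoc, hv, one_mul, map_pow]
      obtain ⟨a', rfl⟩ : f ^ n ∣ a :=
        hprime.pow_dvd_of_dvd_mul_left n (fun hd => hpf (Ideal.mem_span_singleton.2 hd)) ⟨1, by rw [h1, mul_one]⟩
      have h2 : (p : A) * a' = 1 := mul_left_cancel₀ (pow_ne_zero n hprime.ne_zero) (by linear_combination h1)
      have h3 := congrArg (IsLocalRing.residue A) h2
      rw [map_mul, map_natCast, CharP.cast_eq_zero, zero_mul, map_one] at h3
      exact zero_ne_one h3)
    exact ⟨q, hq, hle (Ideal.mem_span_singleton_self _)⟩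
  haveI := hq
  have hχL : ∀ (χ : B →ₐ[L] Ω) (b : B), χ b ∈ Set.range (algebraMap L Ω) := fun χ b => by
    choose r hr using hχR χ
    let χR : B →ₐ[L] R := AlgHom.mk' { toFun := r
                                       map_one' := hψ (by rw [hr, map_one, map_one])
                                       map_mul' := fun a c => hψ (by rw [map_mul, hr, hr, hr, map_mul])
                                       map_zero' := hψ (by rw [hr, map_zero, map_zero])
                                       map_add' := fun a c => hψ (by rw [map_add, hr, hr, hr, map_add]) }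
      (fun c a => hψ (by
        show ψ (r (c • a)) = ψ (c • r a)
        rw [hr, map_smul, map_smul, hr]))
    let pb := AdjoinRoot.powerBasis' (monic_poly p fL)
    have hpos : 0 < pb.dim := by
      show 0 < (X ^ p - C fL).natDegree
      rw [natDegree_X_pow_sub_C]; exact hp.out.pos
    obtain ⟨l, hl⟩ := mem_range p q hpq pb.basis ⟨0, hpos⟩ (by rw [PowerBasis.basis_eq_pow]; simp)
      (pow_const p fL q hpq) χR b
    exact ⟨l, by rw [← ψ.commutes, hl]; exact hr b⟩
  have hbij := bijective_pi (B := B) K Ω hχL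
  let ι := B →ₐ[L] L
  haveI : Finite ι := StrictRatLib.finite_algHom (A := L) B L
  let φ : B ≃ₐ[L] (ι → L) := AlgEquiv.ofBijective _ hbij
  haveI : IsScalarTower A (ι → A) (ι → L) := ⟨fun a x y => funext fun i => smul_assoc a (x i) (y i)⟩
  haveI : IsLocalization.Away (algebraMap A (ι → A) f) (ι → L) := isLocalization_pi f ι
  refine ⟨ι → A, inferInstance, inferInstance, inferInstance, inferInstance, ⟨?_⟩⟩
  exact ((IsLocalization.algEquiv (Submonoid.powers (algebraMap A (ι → A) f))
    (Localization.Away (algebraMap A (ι → A) f)) (ι → L)).restrictScalars A).trans (φ.symm.restrictScalars A)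

end Groth.Agent.PthRootLib
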